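import Mathlib.RingTheory.Ideal.Quotient.Operations
import Mathlib.Algebra.Module.Torsion.Basic
import Mathlib.LinearAlgebra.Matrix.Nondegenerate
import Mathlib.RingTheory.Spectrum.Maximal.Topology
import Mathlib.LinearAlgebra.Matrix.NonsingularInverse
import Mathlib.LinearAlgebra.Dimension.Constructions
import Mathlib.LinearAlgebra.FiniteDimensional.Basic
import Mathlib.Algebra.Module.FinitePresentation
import Mathlib.RingTheory.Finiteness.Cardinality

/-! Unimodular-type independence of sections of a module at closed points. -/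

namespace Groth.Agent.CAlgSerre

universe u v

variable {R : Type u} [CommRing R] {M : Type v} [AddCommGroup M] [Module R M]

/-- The elements killed modulo `I` by all linear forms. -/
def perp (I : Ideal R) : Submodule R M where
  carrier := {m | ∀ φ : M →ₗ[R] R, φ m ∈ I}
  add_mem' ha hb φ := by rw [map_add]; exact add_mem (ha φ) (hb φ)
  zero_mem' φ := by rw [map_zero]; exact zero_mem _
  smul_mem' c m hm φ := by rw [map_smul]; exact I.mul_mem_left c (hm φ)

lemma mem_perp {I : Ideal R} {m : M} : m ∈ perp I ↔ ∀ φ : M →ₗ[R] R, φ m ∈ I := Iff.rfl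

lemma smul_top_le_perp (I : Ideal R) : I • (⊤ : Submodule R M) ≤ perp I :=
  Submodule.smul_le.2 fun r hr n _ φ => by
    rw [map_smul]; exact I.mul_mem_right _ hr

/-- Sections independent modulo `perp I`. -/
def Indep (I : Ideal R) {r : ℕ} (s : Fin r → M) : Prop :=
  ∀ c : Fin r → R, ∑ i, c i • s i ∈ perp I → ∀ i, c i ∈ I

lemma exists_sub_mem_perp_of_indep {I : Ideal R} [I.IsMaximal] {r : ℕ} {s : Fin r → M}
    (hs : Indep I s) (j : Fin r) :
    ∃ φ : M →ₗ[R] R, ∀ i, φ (s i) - (if i = j then 1 else 0) ∈ I := by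
  classical
  let _ : Field (R ⧸ I) := Ideal.Quotient.field I
  let W : Submodule (R ⧸ I) (Fin r → R ⧸ I) :=
    Submodule.span _ (Set.range fun φ : M →ₗ[R] R => fun i => Ideal.Quotient.mk I (φ (s i)))
  have hW : W = ⊤ := by
    by_contra hne
    obtain ⟨ℓ, hℓ, hWℓ⟩ := Submodule.exists_le_ker_of_lt_top W (lt_top_iff_ne_top.2 hne)
    choose c hc using fun i => Ideal.Quotient.mk_surjective (ℓ (Pi.single i 1))
    have hzero : ∀ i, c i ∈ I := hs c fun φ => by
      have h0 : ℓ (fun i => Ideal.Quotient.mk I (φ (s i))) = 0 :=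
        hWℓ (Submodule.subset_span ⟨φ, rfl⟩)
      rw [← Ideal.Quotient.eq_zero_iff_mem, ← h0, map_sum, map_sum, ℓ.pi_apply_eq_sum_univ]
      refine Finset.sum_congr rfl fun i _ => ?_
      rw [map_smul, smul_eq_mul, map_mul, smul_eq_mul, mul_comm, hc]
      congr 1
      exact congrArg ℓ (funext fun k => by simp [Pi.single_apply, eq_comm])
    refine hℓ (LinearMap.pi_ext' fun i => LinearMap.ext_ring ?_)
    simp [← hc, Ideal.Quotient.eq_zero_iff_mem.2 (hzero i)]
  have : (Pi.single j 1 : Fin r → R ⧸ I) ∈ W := hW ▸ Submodule.mem_top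
  obtain ⟨c, hc⟩ := Finsupp.mem_span_range_iff_exists_finsupp.1 this
  choose d hd using fun φ => Ideal.Quotient.mk_surjective (c φ)
  refine ⟨∑ φ ∈ c.support, d φ • φ, fun i => ?_⟩
  rw [← Ideal.Quotient.eq_zero_iff_mem, map_sub, sub_eq_zero]
  have := congrFun hc i
  simp only [Finsupp.sum, Finset.sum_apply, Pi.smul_apply, smul_eq_mul, Pi.single_apply] at this
  simp only [LinearMap.sum_apply, LinearMap.smul_apply, smul_eq_mul, map_sum, map_mul, hd, this]
  split <;> simp

lemma indep_iff_exists {I : Ideal R} [I.IsMaximal] {r : ℕ} {s : Fin r → M} :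
    Indep I s ↔ ∃ φ : Fin r → (M →ₗ[R] R), (Matrix.of fun j i => φ j (s i)).det ∉ I := by
  classical
  let _ : Field (R ⧸ I) := Ideal.Quotient.field I
  constructor
  · intro hs
    choose φ hφ using exists_sub_mem_perp_of_indep hs
    refine ⟨φ, fun h => ?_⟩
    rw [← Ideal.Quotient.eq_zero_iff_mem, RingHom.map_det] at h
    have : (Ideal.Quotient.mk I).mapMatrix (Matrix.of fun j i => φ j (s i)) = 1 := by
      ext j i
      rw [RingHom.mapMatrix_apply, Matrix.map_apply, Matrix.of_apply, Matrix.one_apply,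
        ← sub_eq_zero]
      have := Ideal.Quotient.eq_zero_iff_mem.2 (hφ j i)
      rw [map_sub, sub_eq_zero] at this
      rw [this, sub_eq_zero]
      by_cases h : i = j <;> simp [h, Ne.symm]
    rw [this, Matrix.det_one] at h
    exact one_ne_zero h
  · rintro ⟨φ, hφ⟩ c hc i
    let A := (Ideal.Quotient.mk I).mapMatrix (Matrix.of fun j i => φ j (s i))
    have hdet : A.det ≠ 0 := by
      rw [← RingHom.map_det]
      exact fun h => hφ (Ideal.Quotient.eq_zero_iff_mem.1 h)
    have hv : A.mulVec (fun i => Ideal.Quotient.mk I (c i)) = 0 := by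
      ext j
      have := Ideal.Quotient.eq_zero_iff_mem.2 (hc (φ j))
      simp only [map_sum, map_smul, smul_eq_mul, map_mul] at this
      rw [Pi.zero_apply, ← this]
      simp [A, Matrix.mulVec, dotProduct, mul_comm]
    exact Ideal.Quotient.eq_zero_iff_mem.1 (congrFun (Matrix.eq_zero_of_mulVec_eq_zero hdet hv) i)

lemma isOpen_indep {r : ℕ} (s : Fin r → M) :
    IsOpen {x : MaximalSpectrum R | Indep x.asIdeal s} := by
  have : {x : MaximalSpectrum R | Indep x.asIdeal s} = ⋃ φ : Fin r → (M →ₗ[R] R),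
      MaximalSpectrum.toPrimeSpectrum ⁻¹'
        (PrimeSpectrum.basicOpen (Matrix.of fun j i => φ j (s i)).det : Set (PrimeSpectrum R)) := by
    ext x
    simp [indep_iff_exists]
    rfl
  rw [this]
  exact isOpen_iUnion fun φ =>
    MaximalSpectrum.toPrimeSpectrum_continuous.isOpen_preimage _ PrimeSpectrum.isOpen_basicOpen

lemma indep_snoc {I : Ideal R} [I.IsMaximal] {r : ℕ} {s : Fin r → M} (hs : Indep I s) {t : M}
    (ht : t ∉ Submodule.span R (Set.range s) ⊔ perp I) : Indep I (Fin.snoc s t) := by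
  intro c hc
  rw [Fin.sum_univ_castSucc] at hc
  simp only [Fin.snoc_castSucc, Fin.snoc_last] at hc
  set d := c (Fin.last r)
  have hd : d ∈ I := by
    by_contra hd
    obtain ⟨e, i, hi, he⟩ := Ideal.IsMaximal.exists_inv ‹I.IsMaximal› hd
    refine ht ?_
    have h1 : t = e • (∑ k, c (Fin.castSucc k) • s k + d • t) + i • t
        - e • ∑ k, c (Fin.castSucc k) • s k := by
      rw [smul_add, smul_smul]
      calc t = (e * d + i) • t := by rw [he, one_smul]
        _ = _ := by rw [add_smul]; abel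
    rw [h1]
    refine sub_mem (add_mem (Submodule.mem_sup_right (Submodule.smul_mem _ _ hc))
      (Submodule.mem_sup_right (smul_top_le_perp I (Submodule.smul_mem_smul hi trivial)))) ?_
    exact Submodule.mem_sup_left (Submodule.smul_mem _ _ (Submodule.sum_mem _ fun k _ =>
      Submodule.smul_mem _ _ (Submodule.subset_span (Set.mem_range_self k))))
  have hdt : d • t ∈ perp (M := M) I := smul_top_le_perp I (Submodule.smul_mem_smul hd trivial)
  exact Fin.lastCases hd (hs _ (by simpa using sub_mem hc hdt))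

lemma indep_snoc_congr {I : Ideal R} {r : ℕ} {s : Fin r → M} {t t' : M} (h : t - t' ∈ perp I)
    (hs : Indep I (Fin.snoc s t')) : Indep I (Fin.snoc s t) := by
  intro c hc
  refine hs c ?_
  rw [Fin.sum_univ_castSucc] at hc ⊢
  simp only [Fin.snoc_castSucc, Fin.snoc_last] at hc ⊢
  have := sub_mem hc (Submodule.smul_mem _ (c (Fin.last r)) h)
  rw [smul_sub] at this
  convert this using 1
  abel

lemma indep_of_indep_snoc {I : Ideal R} {r : ℕ} {s : Fin r → M} {t : M}
    (hs : Indep I (Fin.snoc s t)) : Indep I s := by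
  intro c hc i
  have := hs (Fin.snoc c 0) (by simpa [Fin.sum_univ_castSucc] using hc) (Fin.castSucc i)
  simpa using this

lemma indep_snoc_add_smul {I : Ideal R} {r : ℕ} {s : Fin r → M} {t₁ t₂ : M} (a : R)
    (hs : Indep I (Fin.snoc (Fin.snoc s t₁) t₂)) : Indep I (Fin.snoc s (t₁ + a • t₂)) := by
  intro c hc
  rw [Fin.sum_univ_castSucc] at hc
  simp only [Fin.snoc_castSucc, Fin.snoc_last] at hc
  have h := hs (Fin.snoc c (c (Fin.last r) * a)) (by
    rw [Fin.sum_univ_castSucc, Fin.sum_univ_castSucc]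
    simp only [Fin.snoc_castSucc, Fin.snoc_last]
    rw [smul_add, smul_smul] at hc
    rwa [add_assoc])
  intro i
  simpa using h (Fin.castSucc i)

lemma exists_crt (T : Finset (MaximalSpectrum R)) (w : MaximalSpectrum R → M) :
    ∃ t : M, ∀ x ∈ T, t - w x ∈ perp x.asIdeal := by
  classical
  have hI : Pairwise (Function.onFun IsCoprime fun x : T => x.1.asIdeal) := fun x y hxy =>
    Ideal.isCoprime_of_isMaximal fun h => hxy (Subtype.ext (MaximalSpectrum.ext h))
  choose e he using fun x : T =>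
    Ideal.exists_forall_sub_mem_ideal hI fun y : T => if y = x then (1 : R) else 0
  refine ⟨∑ x : T, e x • w x.1, fun x hx => smul_top_le_perp _ ?_⟩
  rw [show w x = ∑ y : T, (if (⟨x, hx⟩ : T) = y then (1 : R) else 0) • w y.1 by simp [ite_smul],
    ← Finset.sum_sub_distrib]
  refine Submodule.sum_mem _ fun y _ => ?_
  rw [← sub_smul]
  exact Submodule.smul_mem_smul (he y ⟨x, hx⟩) trivial

/-! ### Comparison with the fibre -/

variable (I : Ideal R)

/-- The image of `perp` in the fibre. -/
abbrev perpBar : Submodule (R ⧸ I) (M ⧸ (I • ⊤ : Submodule R M)) :=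
  Submodule.span (R ⧸ I) ((I • ⊤ : Submodule R M).mkQ '' {m : M | ∀ φ : M →ₗ[R] R, φ m ∈ I})

lemma img_eq_zero_iff (m : M) :
    (perpBar I).mkQ ((I • ⊤ : Submodule R M).mkQ m) = 0 ↔ m ∈ perp I := by
  rw [Submodule.mkQ_apply, Submodule.Quotient.mk_eq_zero]
  refine ⟨fun h => ?_, fun h => Submodule.subset_span ⟨m, h, rfl⟩⟩
  rw [← Submodule.restrictScalars_mem R, perpBar,
    Submodule.restrictScalars_span R (R ⧸ I) Ideal.Quotient.mk_surjective,
    show {m : M | ∀ φ : M →ₗ[R] R, φ m ∈ I} = ((perp I : Submodule R M) : Set M) from rfl,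
    Submodule.span_image, Submodule.span_eq, ← Submodule.mem_comap,
    Submodule.comap_map_mkQ] at h
  exact (sup_le (smul_top_le_perp I) le_rfl :
    I • (⊤ : Submodule R M) ⊔ perp I ≤ perp I) h

lemma linearIndependent_img_iff {r : ℕ} (s : Fin r → M) :
    LinearIndependent (R ⧸ I) (fun i => (perpBar I).mkQ ((I • ⊤ : Submodule R M).mkQ (s i))) ↔
      Indep I s := by
  rw [Fintype.linearIndependent_iff]
  have key : ∀ c : Fin r → R, ∑ i, Ideal.Quotient.mk I (c i) •
      (perpBar I).mkQ ((I • ⊤ : Submodule R M).mkQ (s i)) =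
        (perpBar I).mkQ ((I • ⊤ : Submodule R M).mkQ (∑ i, c i • s i)) := by
    intro c
    simp only [map_sum, map_smul]
    rfl
  constructor
  · intro h c hc i
    exact Ideal.Quotient.eq_zero_iff_mem.1
      (h (fun i => Ideal.Quotient.mk I (c i)) ((key c).trans ((img_eq_zero_iff I _).2 hc)) i)
  · intro h g hg i
    choose c hc using fun i => Ideal.Quotient.mk_surjective (g i)
    simp only [← hc] at hg ⊢
    rw [key, img_eq_zero_iff] at hg
    exact Ideal.Quotient.eq_zero_iff_mem.2 (h c hg i)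

lemma finrank_le_of_span_sup_eq_top [I.IsMaximal] {j : ℕ} (s : Fin j → M)
    (h : Submodule.span R (Set.range s) ⊔ perp I = ⊤) :
    Module.finrank (R ⧸ I) ((M ⧸ (I • ⊤ : Submodule R M)) ⧸ perpBar (M := M) I) ≤ j := by
  let f : Fin j → ((M ⧸ (I • ⊤ : Submodule R M)) ⧸ perpBar (M := M) I) :=
    fun i => (perpBar I).mkQ ((I • ⊤ : Submodule R M).mkQ (s i))
  have hf : Submodule.span (R ⧸ I) (Set.range f) = ⊤ := by
    refine top_unique fun y _ => ?_
    obtain ⟨y, rfl⟩ := (perpBar I).mkQ_surjective y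
    obtain ⟨m, rfl⟩ := (I • ⊤ : Submodule R M).mkQ_surjective y
    obtain ⟨a, ha, b, hb, rfl⟩ := Submodule.mem_sup.1
      (show m ∈ Submodule.span R (Set.range s) ⊔ perp I from h ▸ Submodule.mem_top)
    rw [map_add, map_add, (img_eq_zero_iff I b).2 hb, add_zero]
    obtain ⟨c, rfl⟩ := (Submodule.mem_span_range_iff_exists_fun R).1 ha
    simp only [map_sum, map_smul]
    refine Submodule.sum_mem _ fun i _ => ?_
    exact Submodule.smul_mem _ (Ideal.Quotient.mk I (c i))
      (Submodule.subset_span (Set.mem_range_self (f := f) i))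
  have := finrank_range_le_card (R := R ⧸ I) f
  rw [Set.finrank, hf, finrank_top, Fintype.card_fin] at this
  exact this

end Groth.Agent.CAlgSerre
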