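import Groth.Agent.CAlgSerre.Proposition
import Mathlib.Topology.KrullDimension
import Mathlib.RingTheory.Localization.AtPrime.Basic
import Mathlib.RingTheory.LocalRing.ResidueField.Basic
import Mathlib.Algebra.Module.LocalizedModule.Basic
import Mathlib.Topology.Separation.Basic

/-! Serre's splitting theorem. -/

namespace Groth.Agent.CAlgSerre

open TopologicalSpace

universe u

theorem indep_of_lifts {R : Type u} [CommRing R] {M : Type u} [AddCommGroup M] [Module R M]
    {I : Ideal R} [I.IsPrime] {r : ℕ} {s : Fin r → M}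
    (h : ∀ j, ∃ (φ : M →ₗ[R] R) (a : R), a ∉ I ∧ ∀ i, φ (s i) - (if i = j then a else 0) ∈ I) :
    Indep I s := by
  intro c hc j
  obtain ⟨φ, a, ha, hφ⟩ := h j
  have h1 := hc φ
  rw [map_sum] at h1
  simp only [map_smul, smul_eq_mul] at h1
  have h2 : ∑ i, c i * (φ (s i) - (if i = j then a else 0)) ∈ I :=
    Ideal.sum_mem _ fun i _ => Ideal.mul_mem_left _ _ (hφ i)
  have h3 := sub_mem h1 h2
  rw [← Finset.sum_sub_distrib] at h3
  simp [← mul_sub] at h3
  exact (‹I.IsPrime›.mem_or_mem h3).resolve_right ha

theorem split_iff_indep (R : Type u) [CommRing R] (M : Type u)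
    [AddCommGroup M] [Module R M] [Module.FinitePresentation R M] (x : Ideal R) [x.IsMaximal]
    (r : ℕ) (s : Fin r → M) :
    (∃ f : R, f ∉ x ∧
      ∃ g : LocalizedModule (Submonoid.powers f) M →ₗ[Localization.Away f] (Fin r → Localization.Away f),
        g ∘ₗ Fintype.linearCombination (Localization.Away f)
            (fun i => LocalizedModule.mkLinearMap (Submonoid.powers f) M (s i)) = LinearMap.id) ↔
    Indep x s := by
  classical
  constructor
  · rintro ⟨f, hf, g, hg⟩
    refine indep_of_lifts fun j => ?_
    obtain ⟨φ, u, hφ⟩ := Module.FinitePresentation.exists_lift_of_isLocalizedModule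
      (Submonoid.powers f) (Algebra.linearMap R (Localization.Away f))
      ((LinearMap.proj j ∘ₗ g).restrictScalars R ∘ₗ LocalizedModule.mkLinearMap (Submonoid.powers f) M)
    have hpow : ∀ v : Submonoid.powers f, (v : R) ∉ x := by
      rintro ⟨_, n, rfl⟩ h
      exact hf (Ideal.IsPrime.mem_of_pow_mem inferInstance n h)
    refine ⟨φ, u, hpow u, fun i => ?_⟩
    have h1 : algebraMap R (Localization.Away f) (φ (s i)) =
        algebraMap R (Localization.Away f) (if i = j then (u : R) else 0) := by
      have h2 := LinearMap.congr_fun hg (Pi.single i 1)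
      rw [LinearMap.comp_apply, Fintype.linearCombination_apply_single, one_smul, LinearMap.id_apply]
        at h2
      have h3 := LinearMap.congr_fun hφ (s i)
      simp only [LinearMap.comp_apply, LinearMap.smul_apply, Algebra.linearMap_apply,
        LinearMap.coe_restrictScalars, LinearMap.coe_proj, Function.eval] at h3
      rw [h3, congrFun h2 j, Submonoid.smul_def, Pi.single_apply, Algebra.smul_def]
      rcases eq_or_ne i j with rfl | hij
      · simp
      · simp [hij, hij.symm]
    obtain ⟨v, hv⟩ := (IsLocalization.eq_iff_exists (Submonoid.powers f) _).1 h1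
    refine (Ideal.IsPrime.mem_or_mem (I := x) inferInstance
      (show (v : R) * _ ∈ x from ?_)).resolve_left (hpow v)
    rw [mul_sub, hv, sub_self]
    exact zero_mem _
  · intro hs
    obtain ⟨φ, hφ⟩ := indep_iff_exists.1 hs
    set A := Matrix.of fun j i => φ j (s i) with hA
    refine ⟨A.det, hφ, ?_⟩
    let ι := algebraMap R (Localization.Away A.det)
    let B := A.map ι
    have hB : IsUnit B.det := by
      rw [show B.det = ι A.det from (RingHom.map_det ι A).symm]
      exact IsLocalization.Away.algebraMap_isUnit A.det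
    let L : LocalizedModule (Submonoid.powers A.det) M →ₗ[Localization.Away A.det]
        (Fin r → Localization.Away A.det) :=
      LinearMap.pi fun j => IsLocalizedModule.mapExtendScalars (Submonoid.powers A.det)
        (LocalizedModule.mkLinearMap (Submonoid.powers A.det) M)
        (Algebra.linearMap R (Localization.Away A.det))
        (Localization.Away A.det) (φ j)
    refine ⟨B⁻¹.mulVecLin ∘ₗ L, LinearMap.pi_ext' fun i => LinearMap.ext_ring ?_⟩
    simp only [LinearMap.comp_apply, LinearMap.coe_single, LinearMap.id_apply,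
      Fintype.linearCombination_apply_single, one_smul]
    have hL : L (LocalizedModule.mkLinearMap (Submonoid.powers A.det) M (s i)) =
        B.mulVec (Pi.single i 1) := by
      ext j
      simp only [L, LinearMap.pi_apply, IsLocalizedModule.mapExtendScalars_apply_apply,
        IsLocalizedModule.map_apply]
      simp [B, A, ι]
    rw [hL, Matrix.mulVecLin_apply, Matrix.mulVec_mulVec, Matrix.nonsing_inv_mul _ hB, Matrix.one_mulVec]

theorem exists_unimodular (R : Type u) [CommRing R] (d : ℕ)
    [NoetherianSpace (MaximalSpectrum R)]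
    (hdim : topologicalKrullDim (MaximalSpectrum R) ≤ d)
    (M : Type u) [AddCommGroup M] [Module R M] [Module.FinitePresentation R M]
    (hM : ∀ (m : Ideal R) [m.IsMaximal],
      ∃ (f : (Fin (d + 1) → Localization.AtPrime m) →ₗ[Localization.AtPrime m] LocalizedModule m.primeCompl M)
        (g : LocalizedModule m.primeCompl M →ₗ[Localization.AtPrime m] (Fin (d + 1) → Localization.AtPrime m)),
        g ∘ₗ f = LinearMap.id) :
    ∃ (s : M) (φ : M →ₗ[R] R), φ s = 1 := by
  classical
  have hbig : Big R M (0 + (d + 1)) := by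
    intro x j s hj htop
    obtain ⟨F, G, hGF⟩ := hM x.asIdeal
    -- lifts of a dual system
    have hlift : ∀ i : Fin (d + 1), ∃ (φ : M →ₗ[R] R) (u : x.asIdeal.primeCompl), ∀ m : M,
        algebraMap R (Localization.AtPrime x.asIdeal) (φ m) =
          (u : R) • G (LocalizedModule.mkLinearMap x.asIdeal.primeCompl M m) i := by
      intro i
      obtain ⟨φ, u, hφ⟩ := Module.FinitePresentation.exists_lift_of_isLocalizedModule
        x.asIdeal.primeCompl (Algebra.linearMap R (Localization.AtPrime x.asIdeal))
        ((LinearMap.proj i ∘ₗ G).restrictScalars R ∘ₗ LocalizedModule.mkLinearMap x.asIdeal.primeCompl M)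
      exact ⟨φ, u, fun m => LinearMap.congr_fun hφ m⟩
    choose φ u hφ using hlift
    have hpre : ∀ i : Fin (d + 1), ∃ (m : M) (v : x.asIdeal.primeCompl),
        LocalizedModule.mkLinearMap x.asIdeal.primeCompl M m = (v : R) • F (Pi.single i 1) := by
      intro i
      obtain ⟨⟨m, v⟩, hmv⟩ := IsLocalizedModule.surj x.asIdeal.primeCompl
        (LocalizedModule.mkLinearMap x.asIdeal.primeCompl M) (F (Pi.single i 1))
      exact ⟨m, v, hmv.symm⟩
    choose m v hmv using hpre
    have hval : ∀ i i', φ i' (m i) - (if i = i' then (u i' : R) * v i else 0) ∈ x.asIdeal := by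
      intro i i'
      have h1 : algebraMap R (Localization.AtPrime x.asIdeal) (φ i' (m i)) =
          algebraMap R (Localization.AtPrime x.asIdeal) (if i = i' then (u i' : R) * v i else 0) := by
        rw [hφ, hmv, LinearMap.map_smul_of_tower, Pi.smul_apply, ← LinearMap.comp_apply, hGF, LinearMap.id_apply,
          smul_smul, Algebra.smul_def, Pi.single_apply]
        rcases eq_or_ne i i' with rfl | hij
        · simp
        · simp [hij, hij.symm]
      obtain ⟨w, hw⟩ := (IsLocalization.eq_iff_exists x.asIdeal.primeCompl _).1 h1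
      refine (Ideal.IsPrime.mem_or_mem (I := x.asIdeal) x.isMaximal.isPrime
        (show (w : R) * _ ∈ x.asIdeal from ?_)).resolve_left w.2
      rw [mul_sub, hw, sub_self]
      exact zero_mem _
    have hindep : Indep x.asIdeal m := indep_of_lifts fun i' =>
      ⟨φ i', (u i' : R) * v i', fun h => (x.isMaximal.isPrime.mem_or_mem h).elim (u i').2 (v i').2,
        fun i => by
          have := hval i i'
          rcases eq_or_ne i i' with rfl | hne <;> simp_all⟩
    have hfield := (linearIndependent_img_iff x.asIdeal m).2 hindep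
    let _ : Field (R ⧸ x.asIdeal) := Ideal.Quotient.field _
    have : Module.Finite (R ⧸ x.asIdeal) (M ⧸ (x.asIdeal • ⊤ : Submodule R M)) :=
      Module.Finite.of_restrictScalars_finite R _ _
    have := hfield.fintype_card_le_finrank.trans (finrank_le_of_span_sup_eq_top x.asIdeal s htop)
    rw [Fintype.card_fin] at this
    omega
  obtain ⟨t, F', -, -, hZ, hc⟩ := proposition (d + 1) 0 Fin.elim0 ∅ isClosed_empty
    (fun x hx => (hx fun c _ i => i.elim0).elim) hbig ∅ (by simp) 0
  have hF' : F' = ∅ := by
    by_contra hne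
    obtain ⟨z, hz⟩ := Set.nonempty_iff_ne_empty.2 hne
    let Z : IrreducibleCloseds (MaximalSpectrum R) := ⟨{z}, isIrreducible_singleton, isClosed_singleton⟩
    have h1 := hc Z (Set.singleton_subset_iff.2 hz)
    have h2 := (Order.coheight_le_krullDim Z).trans hdim
    have h3 : ((d + 1 : ℕ) : ℕ∞) ≤ (d : ℕ∞) := h1.trans (by exact_mod_cast h2)
    exact absurd (ENat.coe_le_coe.1 h3) (by omega)
  let J : Ideal R := (LinearMap.range (Module.Dual.eval R M t))
  have hJ : J = ⊤ := by
    by_contra hJ
    obtain ⟨x, hx, hJx⟩ := Ideal.exists_le_maximal J hJ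
    have h1 : Indep x (Fin.snoc (α := fun _ => M) Fin.elim0 t) := by
      by_contra h
      rcases hZ ⟨x, hx⟩ h with h' | h'
      · exact h'
      · exact (hF' ▸ h' :)
    refine hx.ne_top ((Ideal.eq_top_iff_one x).2 (h1 (fun _ => 1) ?_ 0))
    intro φ
    simpa [Fin.snoc] using hJx ⟨φ, rfl⟩
  obtain ⟨φ, hφ⟩ := (show (1 : R) ∈ J from hJ ▸ trivial)
  exact ⟨t, φ, hφ⟩

end Groth.Agent.CAlgSerre
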