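import Groth.Agent.CAlgSerre.Basic
import Mathlib.Topology.NoetherianSpace
import Mathlib.Topology.Sets.Closeds
import Mathlib.Order.KrullDimension

/-! Serre's proposition on extending independent systems of sections. -/

namespace Groth.Agent.CAlgSerre

open TopologicalSpace

universe u v

variable {R : Type u} [CommRing R] [NoetherianSpace (MaximalSpectrum R)]
  {M : Type v} [AddCommGroup M] [Module R M]

/-- No `j < N` sections generate any fibre modulo `perp`. -/
def Big (R : Type u) [CommRing R] (M : Type v) [AddCommGroup M] [Module R M] (N : ℕ) : Prop :=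
  ∀ (x : MaximalSpectrum R) (j : ℕ) (s : Fin j → M), j < N →
    Submodule.span R (Set.range s) ⊔ perp x.asIdeal ≠ ⊤

lemma exists_pieces {C : Set (MaximalSpectrum R)} (hC : IsClosed C) :
    ∃ S : Finset (IrreducibleCloseds (MaximalSpectrum R)),
      (∀ W ∈ S, (W : Set (MaximalSpectrum R)) ⊆ C) ∧
        ∀ x ∈ C, ∃ W ∈ S, x ∈ (W : Set (MaximalSpectrum R)) := by
  classical
  obtain ⟨S, hSfin, hScl, hSirr, hSU⟩ := NoetherianSpace.exists_finite_set_isClosed_irreducible hC
  have := hSfin.fintype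
  refine ⟨Finset.univ.image fun Z : S => ⟨Z.1, hSirr _ Z.2, hScl _ Z.2⟩, fun W hW => ?_, fun x hx => ?_⟩
  · obtain ⟨Z, -, rfl⟩ := Finset.mem_image.1 hW
    exact hSU ▸ Set.subset_sUnion_of_mem Z.2
  · obtain ⟨Z, hZ, hxZ⟩ := Set.mem_sUnion.1 (hSU ▸ hx : x ∈ ⋃₀ S)
    exact ⟨_, Finset.mem_image.2 ⟨⟨Z, hZ⟩, Finset.mem_univ _, rfl⟩, hxZ⟩

lemma exists_finset_points (S : Finset (IrreducibleCloseds (MaximalSpectrum R)))
    (E : Set (MaximalSpectrum R)) :
    ∃ P : Finset (MaximalSpectrum R),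
      (∀ z ∈ P, z ∉ E ∧ ∃ W ∈ S, z ∈ (W : Set (MaximalSpectrum R))) ∧
      ∀ W ∈ S, ¬ (W : Set (MaximalSpectrum R)) ⊆ E → ∃ z ∈ P, z ∈ (W : Set (MaximalSpectrum R)) := by
  classical
  choose f hf using fun W : {W // W ∈ S.filter fun W : IrreducibleCloseds (MaximalSpectrum R) => ¬ (W : Set (MaximalSpectrum R)) ⊆ E} =>
    Set.not_subset.1 (Finset.mem_filter.1 W.2).2
  refine ⟨Finset.univ.image f, fun z hz => ?_, fun W hW hWE => ?_⟩
  · obtain ⟨W, -, rfl⟩ := Finset.mem_image.1 hz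
    exact ⟨(hf W).2, W.1, (Finset.mem_filter.1 W.2).1, (hf W).1⟩
  · exact ⟨_, Finset.mem_image.2 ⟨⟨W, Finset.mem_filter.2 ⟨hW, hWE⟩⟩, Finset.mem_univ _, rfl⟩,
      (hf ⟨W, Finset.mem_filter.2 ⟨hW, hWE⟩⟩).1⟩

theorem proposition (k : ℕ) :
    ∀ (h : ℕ) (s : Fin h → M) (F : Set (MaximalSpectrum R)), IsClosed F →
      (∀ x, ¬ Indep x.asIdeal s → x ∈ F) → Big R M (h + k) →
      ∀ (T : Finset (MaximalSpectrum R)), (∀ x ∈ T, x ∈ F) → ∀ w : MaximalSpectrum R → M,
      ∃ (t : M) (F' : Set (MaximalSpectrum R)), IsClosed F' ∧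
        (∀ x ∈ T, t - w x ∈ perp x.asIdeal) ∧
        (∀ x, ¬ Indep x.asIdeal (Fin.snoc s t) → x ∈ F ∪ F') ∧
        ∀ Z : IrreducibleCloseds (MaximalSpectrum R), (Z : Set (MaximalSpectrum R)) ⊆ F' →
          (k : ℕ∞) ≤ Order.coheight Z := by
  classical
  induction k with
  | zero =>
    intro h s F _ _ _ T _ w
    obtain ⟨t, ht⟩ := exists_crt T w
    exact ⟨t, Set.univ, isClosed_univ, ht, fun x _ => Or.inr trivial, fun Z _ => by simp⟩
  | succ k ih =>
    intro h s F hF hsF hbig T hT w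
    obtain ⟨t₁, F₁, hF₁, ht₁, hZ₁, hc₁⟩ :=
      ih h s F hF hsF (fun x j s' hj => hbig x j s' (by omega)) T hT w
    obtain ⟨S₁, hS₁, hS₁'⟩ := exists_pieces hF₁
    obtain ⟨P, hP, hP'⟩ := exists_finset_points S₁ F
    have hout : ∀ z : MaximalSpectrum R, ∃ m : M, m ∉ Submodule.span R (Set.range s) ⊔ perp z.asIdeal :=
      fun z => SetLike.exists_not_mem_of_ne_top _ (hbig z h s (by omega)) rfl
    choose m hm using hout
    obtain ⟨t₂, F₂, hF₂, ht₂, hZ₂, hc₂⟩ := ih (h + 1) (Fin.snoc s t₁) (F ∪ F₁) (hF.union hF₁) hZ₁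
      (fun x j s' hj => hbig x j s' (by omega)) (T ∪ P) (fun x hx => by
        rcases Finset.mem_union.1 hx with hx | hx
        · exact Or.inl (hT x hx)
        · obtain ⟨W, hW, hxW⟩ := (hP x hx).2
          exact Or.inr (hS₁ W hW hxW))
      (fun x => if x ∈ T then 0 else m x)
    obtain ⟨S₂, hS₂, hS₂'⟩ := exists_pieces hF₂
    obtain ⟨Q, hQ, hQ'⟩ := exists_finset_points S₂ (F ∪ F₁)
    obtain ⟨a, ha⟩ := exists_crt (M := R) (P ∪ Q) fun z =>
      if z ∈ P ∧ t₁ ∈ Submodule.span R (Set.range s) ⊔ perp z.asIdeal then 1 else 0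
    have ha' : ∀ z ∈ P ∪ Q, a - (if z ∈ P ∧ t₁ ∈ Submodule.span R (Set.range s) ⊔ perp z.asIdeal
        then 1 else 0) ∈ z.asIdeal := fun z hz => mem_perp.1 (ha z hz) LinearMap.id
    set t := t₁ + a • t₂
    have hTt : ∀ x ∈ T, t - w x ∈ perp x.asIdeal := fun x hx => by
      have h2 := ht₂ x (Finset.mem_union_left _ hx)
      rw [if_pos hx, sub_zero] at h2
      rw [show t - w x = (t₁ - w x) + a • t₂ by simp only [t]; abel]
      exact add_mem (ht₁ x hx) (Submodule.smul_mem _ a h2)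
    have hPgood : ∀ z ∈ P, Indep z.asIdeal (Fin.snoc s t) := fun z hz => by
      have hzF : z ∉ F := (hP z hz).1
      have hzT : z ∉ T := fun h => hzF (hT z h)
      have hs : Indep z.asIdeal s := by_contra fun h => hzF (hsF z h)
      refine indep_snoc hs fun hmem => ?_
      have h2 := ht₂ z (Finset.mem_union_right _ hz)
      rw [if_neg hzT] at h2
      have h3 := ha' z (Finset.mem_union_left _ hz)
      by_cases hc : t₁ ∈ Submodule.span R (Set.range s) ⊔ perp z.asIdeal
      · rw [if_pos ⟨hz, hc⟩] at h3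
        refine hm z ?_
        rw [show m z = (t - t₁) - (a - 1) • t₂ - (t₂ - m z) by
          simp only [t, sub_smul, one_smul]; abel]
        exact sub_mem (sub_mem (sub_mem hmem hc) (Submodule.mem_sup_right
          (smul_top_le_perp _ (Submodule.smul_mem_smul h3 trivial)))) (Submodule.mem_sup_right h2)
      · rw [if_neg fun h => hc h.2, sub_zero] at h3
        refine hc ?_
        rw [show t₁ = t - a • t₂ by simp [t]]
        exact sub_mem hmem (Submodule.mem_sup_right
          (smul_top_le_perp _ (Submodule.smul_mem_smul h3 trivial)))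
    have hQgood : ∀ z ∈ Q, Indep z.asIdeal (Fin.snoc s t) := fun z hz => by
      have hzF : z ∉ F ∪ F₁ := (hQ z hz).1
      have h1 : Indep z.asIdeal (Fin.snoc s t₁) := by_contra fun h => hzF (hZ₁ z h)
      have hzP : z ∉ P := fun hzP => by
        obtain ⟨W, hW, hzW⟩ := (hP z hzP).2
        exact hzF (Or.inr (hS₁ W hW hzW))
      have h3 := ha' z (Finset.mem_union_right _ hz)
      rw [if_neg fun h => hzP h.1, sub_zero] at h3
      refine indep_snoc_congr ?_ h1
      rw [show t - t₁ = a • t₂ by simp [t]]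
      exact smul_top_le_perp _ (Submodule.smul_mem_smul h3 trivial)
    set bad : Set (MaximalSpectrum R) := {x | ¬ Indep x.asIdeal (Fin.snoc s t)}
    have hbad : IsClosed bad := (isOpen_indep _).isClosed_compl
    let S := (S₁.filter fun W : IrreducibleCloseds (MaximalSpectrum R) => ¬ (W : Set (MaximalSpectrum R)) ⊆ F) ∪
      (S₂.filter fun W : IrreducibleCloseds (MaximalSpectrum R) => ¬ (W : Set (MaximalSpectrum R)) ⊆ F ∪ F₁)
    refine ⟨t, ⋃ W ∈ S, (W : Set (MaximalSpectrum R)) ∩ bad, ?_, hTt, ?_, ?_⟩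
    · exact S.finite_toSet.isClosed_biUnion fun W _ => W.isClosed.inter hbad
    · intro x hx
      by_cases hxF : x ∈ F
      · exact Or.inl hxF
      refine Or.inr (Set.mem_iUnion₂.2 ?_)
      by_cases hx1 : x ∈ F₁
      · obtain ⟨W, hW, hxW⟩ := hS₁' x hx1
        exact ⟨W, Finset.mem_union_left _ (Finset.mem_filter.2 ⟨hW, fun h => hxF (h hxW)⟩), hxW, hx⟩
      · have hx2 : x ∈ F₂ := by
          by_contra hx2
          refine hx (indep_snoc_add_smul a (by_contra fun h => ?_))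
          rcases hZ₂ x h with (h | h) | h <;> contradiction
        obtain ⟨W, hW, hxW⟩ := hS₂' x hx2
        refine ⟨W, Finset.mem_union_right _ (Finset.mem_filter.2 ⟨hW, fun h => ?_⟩), hxW, hx⟩
        rcases h hxW with h | h <;> contradiction
    · intro Z hZ
      obtain ⟨_, hW', hZW⟩ := isIrreducible_iff_sUnion_isClosed.1 Z.isIrreducible
        (S.image fun W : IrreducibleCloseds (MaximalSpectrum R) => (W : Set _) ∩ bad)
        (fun z hz => by
          obtain ⟨W, -, rfl⟩ := Finset.mem_image.1 hz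
          exact W.isClosed.inter hbad)
        (fun z hz => by
          obtain ⟨W, hW, hzW⟩ := Set.mem_iUnion₂.1 (hZ hz)
          exact Set.mem_sUnion.2 ⟨_, Finset.mem_image_of_mem _ hW, hzW⟩)
      obtain ⟨W, hW, rfl⟩ := Finset.mem_image.1 hW'
      clear hW'
      have hlt : ∀ z, z ∈ (W : Set (MaximalSpectrum R)) → Indep z.asIdeal (Fin.snoc s t) → Z < W := by
        intro z hz hgood
        refine lt_of_le_of_ne (fun y hy => (hZW hy).1) fun hne => ?_
        exact (hZW (hne ▸ hz : z ∈ (Z : Set (MaximalSpectrum R)))).2 hgood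
      have hfin : ∀ {z}, z ∈ (W : Set (MaximalSpectrum R)) → Indep z.asIdeal (Fin.snoc s t) →
          (k : ℕ∞) ≤ Order.coheight W → ((k + 1 : ℕ) : ℕ∞) ≤ Order.coheight Z := fun hz hg hk =>
        le_trans (by push_cast; gcongr) (Order.coheight_add_one_le (hlt _ hz hg))
      rcases Finset.mem_union.1 hW with hW | hW <;> obtain ⟨hW, hWnot⟩ := Finset.mem_filter.1 hW
      · obtain ⟨z, hz, hzW⟩ := hP' W hW hWnot
        exact hfin hzW (hPgood z hz) (hc₁ W (hS₁ W hW))
      · obtain ⟨z, hz, hzW⟩ := hQ' W hW hWnot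
        exact hfin hzW (hQgood z hz) (hc₂ W (hS₂ W hW))

end Groth.Agent.CAlgSerre
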